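import Mathlib
import Cfsg.Agent.H55.Ext.Base
import Cfsg.Agent.H933.SubChev
import Cfsg.Agent.H933.SubTwist

/-!
# The Sylow subgroups of `Out S` are cyclic, `S` exceptional of Lie type (S4832, EXT-F2; helper55)

`sylCyc_g2`, `sylCyc_f4`, `sylCyc_e8`, `sylCyc_3D4`, `sylCyc_suzuki`, `sylCyc_ree`, `sylCyc_2F4` : all of them;
`sylCyc_e7` (`q` even or `f` odd), `sylCyc_e6` (`f` odd, not (`3 ∣ q - 1` and `3 ∣ f`)), `sylCyc_2E6`
(not (`3 ∣ q + 1` and `3 ∣ f`)), where `q = p ^ f`.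
-/

set_option autoImplicit false

open Cfsg

namespace Cfsg.Agent.H55.Ext

open Cfsg.Agent.H576.Ext Cfsg.Agent.H933.SubField Cfsg.Agent.H933.SubClass

universe u

/-! ### numbers -/

theorem sylCycGrp_of_card_eq {X : Type*} [Group X] [Finite X] {c f : ℕ} (hX : Nat.card X = c * f) (x : X)
    (hx : f ∣ orderOf x) (hc : ∀ ℓ : ℕ, ℓ.Prime → ℓ ∣ c → ¬ ℓ ^ 2 ∣ c * f) : SylCycGrp X := by
  have h0 : Nat.card X ≠ 0 := Nat.card_pos.ne'
  have hc0 : c ≠ 0 := by rintro rfl; rw [zero_mul] at hX; exact h0 hX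
  have hf0 : f ≠ 0 := by rintro rfl; rw [mul_zero] at hX; exact h0 hX
  apply sylCycGrp_of_orders
  intro ℓ hℓ
  by_cases h1 : ℓ ∣ c
  · left
    rw [hX]
    exact hc ℓ hℓ h1
  · right
    refine ⟨x, ?_⟩
    rw [hX, Nat.factorization_mul hc0 hf0, Finsupp.add_apply, Nat.factorization_eq_zero_of_not_dvd h1, zero_add]
    exact (Nat.factorization_le_iff_dvd hf0 (orderOf_pos x).ne').2 hx ℓ

theorem sylCycGrp_of_card_eq' {X : Type*} [Group X] [Finite X] {f : ℕ} (hX : Nat.card X = f) (x : X)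
    (hx : f ∣ orderOf x) : SylCycGrp X :=
  sylCycGrp_of_card_eq (c := 1) (by rw [one_mul]; exact hX) x hx fun ℓ hℓ h => absurd (Nat.dvd_one.1 h) hℓ.one_lt.ne'

theorem orderOf_of_frob {F : Type*} [Field F] [Fintype F] {p f : ℕ} [hp : Fact p.Prime] (hf : 1 ≤ f)
    (hF : Fintype.card F = p ^ f) (σ : F ≃+* F) (hσ : ∀ x, σ x = x ^ p) : f ∣ orderOf σ := by
  have h1 : Nat.card (F ≃+* F) = f := Cfsg.Agent.Lib.FieldAutCard.card_ringAut hf hF
  have hfin : Finite (F ≃+* F) := Nat.finite_of_card_ne_zero (by omega)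
  have hpow : ∀ (k : ℕ) (x : F), (σ ^ k) x = x ^ p ^ k := by
    intro k
    induction k with
    | zero => intro x; simp
    | succ k ih =>
      intro x
      rw [pow_succ']
      show σ ((σ ^ k) x) = _
      rw [ih, hσ, ← pow_mul, pow_succ]
  set k := orderOf σ with hk
  have hk0 : 0 < k := orderOf_pos σ
  have h2 : ∀ x : F, x ^ p ^ k = x := by
    intro x
    rw [← hpow, hk, pow_orderOf_eq_one]
    rfl
  obtain ⟨u, hu⟩ := IsCyclic.exists_ofOrder_eq_natCard (α := Fˣ)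
  rw [Nat.card_units, Nat.card_eq_fintype_card, hF] at hu
  have h3 : u ^ (p ^ k - 1) = 1 := by
    have h4 : u ^ (p ^ k) = u := Units.ext (by rw [Units.val_pow_eq_pow_val]; exact h2 u)
    have h5 : p ^ k = (p ^ k - 1) + 1 := by
      have := Nat.one_le_pow k p hp.out.pos
      omega
    rw [h5, pow_succ] at h4
    exact mul_eq_right.1 h4
  have h4 := orderOf_dvd_of_pow_eq_one h3
  rw [hu] at h4
  have h5 : 1 < p ^ k := Nat.one_lt_pow hk0.ne' hp.out.one_lt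
  have h6 := Nat.le_of_dvd (by omega) h4
  have h7 : 1 ≤ p ^ f := Nat.one_le_pow f p hp.out.pos
  have h8 : f ≤ k := by
    by_contra hcon
    have := Nat.pow_lt_pow_right hp.out.one_lt (not_le.1 hcon)
    omega
  have h9 : k ∣ f := by rw [← h1]; exact orderOf_dvd_natCard σ
  have h10 : k ≤ f := Nat.le_of_dvd (by omega) h9
  rw [le_antisymm h10 h8]

/-- `f` even, `f ∣ |x²|`: `2 f ∣ |x|` -/
theorem two_mul_dvd_orderOf {X : Type*} [Group X] [Finite X] {f : ℕ} (hf : 2 ∣ f) (x : X) (hx : f ∣ orderOf (x ^ 2)) :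
    2 * f ∣ orderOf x := by
  have h1 : orderOf (x ^ 2) = orderOf x / Nat.gcd (orderOf x) 2 := orderOf_pow' x (by norm_num)
  have h2 : orderOf (x ^ 2) ∣ orderOf x := orderOf_pow_dvd 2
  have h3 : 2 ∣ orderOf x := (hf.trans hx).trans h2
  rw [Nat.gcd_eq_right h3] at h1
  obtain ⟨m, hm⟩ := h3
  rw [hm, Nat.mul_div_cancel_left m (by norm_num)] at h1
  rw [h1] at hx
  rw [hm]
  exact Nat.mul_dvd_mul_left 2 hx

section chev

open scoped Pointwise
open Cfsg.Lie Cfsg.Agent.ChevalleyStructure Cfsg.Agent.ChevalleyStructure.Elts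
  Cfsg.Agent.ChevalleyStructure.NConj Cfsg.Agent.ChevalleyStructure.BNChev Cfsg.Agent.S1042
  Cfsg.Agent.Schreier.ChevLocal Cfsg.Agent.H70.AutFix Cfsg.Agent.H70.ChevTab Cfsg.Agent.H70.ChevFix
  Cfsg.Agent.H70.ChevField Cfsg.Agent.H70.PermFix Cfsg.Agent.H70.ChevDiag Cfsg.Agent.H70.OutCount

/-- an automorphism acting as a field automorphism on the simple root elements has order divisible by that of the field
automorphism in `Out` -/
theorem dvd_of_simple {D : ChevalleyDatum} (hD : InList D) {F : Type u} [Field F] [Finite F] (σ : F ≃+* F)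
    (α : MulAut ↥(D.group F))
    (h1 : ∀ (i : Fin D.rank) (t : F), α (xe hD (D.simple i) t) = xe hD (D.simple i) (σ t))
    (h2 : ∀ (i : Fin D.rank) (t : F), α (xe hD (D.neg (D.simple i)) t) = xe hD (D.neg (D.simple i)) (σ t)) :
    orderOf σ ∣ orderOf (QuotientGroup.mk α : Cfsg.Out ↥(D.group F)) := by
  refine dvd_orderOf α fun k g hg => ?_
  have hk1 : ∀ (k : ℕ) (i : Fin D.rank) (t : F), (α ^ k) (xe hD (D.simple i) t) = xe hD (D.simple i) ((σ ^ k) t) := by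
    intro k
    induction k with
    | zero => intro i t; rfl
    | succ k ih =>
      intro i t
      rw [pow_succ, MulAut.mul_apply, h1, ih, pow_succ]
      rfl
  have hk2 : ∀ (k : ℕ) (i : Fin D.rank) (t : F),
      (α ^ k) (xe hD (D.neg (D.simple i)) t) = xe hD (D.neg (D.simple i)) ((σ ^ k) t) := by
    intro k
    induction k with
    | zero => intro i t; rfl
    | succ k ih =>
      intro i t
      rw [pow_succ, MulAut.mul_apply, h2, ih, pow_succ]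
      rfl
  have h3 : Perm D F (α ^ k) 1 := by
    refine perm_one_of_values hD (c := fun _ => 1) (σ := fun _ => σ ^ k) (fun _ => one_ne_zero) (fun i t => ?_)
      (fun i t => ?_)
    · rw [hk1, one_mul]
    · rw [hk2, inv_one, one_mul]
  have h4 : g ∈ HH D F := by
    rw [hg] at h3
    rw [← normalizer_inf hD, Subgroup.mem_inf, mem_normalizer_iff_smul, mem_normalizer_iff_smul]
    exact ⟨Perm.smul_UU hD h3, Perm.smul_VN hD h3⟩
  have hrank : 0 < D.rank := (RootComb.good_of_mem hD).rank_pos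
  have hr : D.simple 0 < D.nroots := simple_lt hD hrank
  obtain ⟨c, hc, h5⟩ := diagonal_conj hD h4 hr
  have h6 : ∀ t : F, (σ ^ k) t = c * t := by
    intro t
    apply xe_inj hD hr
    have := hk1 k ⟨0, hrank⟩ t
    rw [← this, hg, MulAut.conj_apply]
    exact Subtype.ext (h5 t)
  have h7 := h6 1
  rw [map_one, mul_one] at h7
  ext t
  rw [h6, ← h7, one_mul]
  rfl

/-- an automorphism whose square acts as a field automorphism of even order `f` -/
theorem two_mul_dvd {D : ChevalleyDatum} (hD : InList D) {F : Type u} [Field F] [Finite F] (σ : F ≃+* F)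
    (α : MulAut ↥(D.group F)) {f : ℕ} (hf : 2 ∣ f) (hσ : f ∣ orderOf σ)
    (h1 : ∀ (i : Fin D.rank) (t : F), α (α (xe hD (D.simple i) t)) = xe hD (D.simple i) (σ t))
    (h2 : ∀ (i : Fin D.rank) (t : F), α (α (xe hD (D.neg (D.simple i)) t)) = xe hD (D.neg (D.simple i)) (σ t)) :
    2 * f ∣ orderOf (QuotientGroup.mk α : Cfsg.Out ↥(D.group F)) := by
  have hfin : Finite ↥(D.group F) := inferInstance
  apply two_mul_dvd_orderOf hf
  have h3 := dvd_of_simple hD σ (α ^ 2) (fun i t => by rw [pow_two, MulAut.mul_apply]; exact h1 i t)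
    (fun i t => by rw [pow_two, MulAut.mul_apply]; exact h2 i t)
  rw [QuotientGroup.mk_pow] at h3
  exact hσ.trans h3

variable {F : Type} [Field F] [Fintype F]

open Cfsg.Agent.H69.OutGF in
theorem out_g2 (hq : 3 ≤ Fintype.card F) : SylCycGrp (Cfsg.Out ↥(chevG2.group F)) := by
  obtain ⟨p, f, hp, hf, hF⟩ := exists_card F
  have hfp : Fact p.Prime := ⟨hp⟩
  have hch : CharP F p := charP_of_card_eq_prime_pow hF
  obtain ⟨σ, hσ⟩ := exists_orderOf hf hF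
  obtain ⟨x, hx⟩ := Cfsg.Agent.H933.SubChev.exists_out (F := F) (show InList chevG2 by simp [InList]) σ
  rw [hσ] at hx
  have hfin : Finite ↥(chevG2.group F) := inferInstance
  have hcard := Cfsg.Agent.S2121.result (F := F) p f hF (by rw [← hF]; exact hq)
  split_ifs at hcard with hp3
  · subst hp3
    by_cases h2 : 2 ∣ f
    · -- the graph automorphism
      obtain ⟨α, hα⟩ := Cfsg.Agent.S1099.result (K := F) (hperf 3)
      obtain ⟨t0, t1, t2, t3⟩ := tab_G2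
      have ha : ∀ t, α (xe hG2 7 t) = xe hG2 6 (t ^ 3) := fun t =>
        eq_xe hG2 ((hα (xe hG2 7 t) t).1 (coe_coe_xe hG2 7 t))
      have hb : ∀ t, α (xe hG2 6 t) = xe hG2 7 t := fun t =>
        eq_xe hG2 ((hα (xe hG2 6 t) t).2.1 (coe_coe_xe hG2 6 t))
      have hma : ∀ t, α (xe hG2 4 t) = xe hG2 5 (t ^ 3) := fun t =>
        eq_xe hG2 ((hα (xe hG2 4 t) t).2.2.1 (coe_coe_xe hG2 4 t))
      have hmb : ∀ t, α (xe hG2 5 t) = xe hG2 4 t := fun t =>
        eq_xe hG2 ((hα (xe hG2 5 t) t).2.2.2 (coe_coe_xe hG2 5 t))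
      let τ : F ≃+* F := frobeniusEquiv F 3
      have hτ : ∀ t, τ t = t ^ 3 := fun t => rfl
      have hc : ∀ i : Fin chevG2.rank, i = (0 : Fin 2) ∨ i = (1 : Fin 2) := by
        have : ∀ j : Fin 2, j = 0 ∨ j = 1 := by decide
        exact this
      have h3 := two_mul_dvd hG2 τ α h2 (orderOf_of_frob hf hF τ hτ) (fun i t => by
          rcases hc i with rfl | rfl
          · show α (α (xe hG2 (chevG2.simple 0) t)) = xe hG2 (chevG2.simple 0) (τ t)
            rw [t0, ha, hb, hτ]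
          · show α (α (xe hG2 (chevG2.simple 1) t)) = xe hG2 (chevG2.simple 1) (τ t)
            rw [t1, hb, ha, hτ]) (fun i t => by
          rcases hc i with rfl | rfl
          · show α (α (xe hG2 (chevG2.neg (chevG2.simple 0)) t)) = xe hG2 (chevG2.neg (chevG2.simple 0)) (τ t)
            rw [t0, t2, hma, hmb, hτ]
          · show α (α (xe hG2 (chevG2.neg (chevG2.simple 1)) t)) = xe hG2 (chevG2.neg (chevG2.simple 1)) (τ t)
            rw [t1, t3, hmb, hma, hτ])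
      exact sylCycGrp_of_card_eq' hcard _ h3
    · refine sylCycGrp_of_card_eq hcard x hx fun ℓ hℓ h => ?_
      obtain rfl := (Nat.prime_dvd_prime_iff_eq hℓ Nat.prime_two).1 h
      omega
  · exact sylCycGrp_of_card_eq' hcard x hx

open Cfsg.Agent.H69.OutGF in
theorem out_f4 : SylCycGrp (Cfsg.Out ↥(chevF4.group F)) := by
  obtain ⟨p, f, hp, hf, hF⟩ := exists_card F
  have hfp : Fact p.Prime := ⟨hp⟩
  have hch : CharP F p := charP_of_card_eq_prime_pow hF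
  obtain ⟨σ, hσ⟩ := exists_orderOf hf hF
  obtain ⟨x, hx⟩ := Cfsg.Agent.H933.SubChev.exists_out (F := F) (show InList chevF4 by simp [InList]) σ
  rw [hσ] at hx
  have hfin : Finite ↥(chevF4.group F) := inferInstance
  have hcard := Cfsg.Agent.S2122.result (F := F) p f hF
  by_cases hp2 : p = 2
  · subst hp2
    rw [Nat.gcd_self] at hcard
    by_cases h2 : 2 ∣ f
    · -- the graph automorphism
      obtain ⟨α, hα⟩ := Cfsg.Agent.S1098.result (K := F) (hperf 2) (chevF4, [(3, 2), (2, 2), (1, 1), (0, 1)]) (by simp)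
      let τ : F ≃+* F := frobeniusEquiv F 2
      have hτ : ∀ t, τ t = t ^ 2 := fun t => rfl
      have hp : ∀ (i : ℕ) (t : F), i < 4 → α (xe hF4 (chevF4.simple i) t) =
          xe hF4 (chevF4.simple ([(3, 2), (2, 2), (1, 1), (0, 1)].getD i (0, 1)).1)
            (t ^ ([(3, 2), (2, 2), (1, 1), (0, 1)].getD i (0, 1)).2) := fun i t hi =>
        eq_xe hF4 ((hα (xe hF4 (chevF4.simple i) t) i t hi).1 (coe_coe_xe hF4 _ t))
      have hm : ∀ (i : ℕ) (t : F), i < 4 → α (xe hF4 (chevF4.neg (chevF4.simple i)) t) =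
          xe hF4 (chevF4.neg (chevF4.simple ([(3, 2), (2, 2), (1, 1), (0, 1)].getD i (0, 1)).1))
            (t ^ ([(3, 2), (2, 2), (1, 1), (0, 1)].getD i (0, 1)).2) := fun i t hi =>
        eq_xe hF4 ((hα (xe hF4 (chevF4.neg (chevF4.simple i)) t) i t hi).2 (coe_coe_xe hF4 _ t))
      have key : ∀ i : ℕ, i < 4 →
          ([(3, 2), (2, 2), (1, 1), (0, 1)].getD i (0, 1)).1 < 4 ∧
          ([(3, 2), (2, 2), (1, 1), (0, 1)].getD ([(3, 2), (2, 2), (1, 1), (0, 1)].getD i (0, 1)).1 (0, 1)).1 = i ∧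
          ([(3, 2), (2, 2), (1, 1), (0, 1)].getD i (0, 1)).2 *
            ([(3, 2), (2, 2), (1, 1), (0, 1)].getD ([(3, 2), (2, 2), (1, 1), (0, 1)].getD i (0, 1)).1 (0, 1)).2 = 2 := by
        decide
      have h3 := two_mul_dvd hF4 τ α h2 (orderOf_of_frob hf hF τ hτ) (fun i t => by
          obtain ⟨k1, k2, k3⟩ := key i i.2
          rw [hp i t i.2, hp _ _ k1, k2, ← pow_mul, k3, hτ]) (fun i t => by
          obtain ⟨k1, k2, k3⟩ := key i i.2
          rw [hm i t i.2, hm _ _ k1, k2, ← pow_mul, k3, hτ])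
      exact sylCycGrp_of_card_eq' hcard _ h3
    · refine sylCycGrp_of_card_eq hcard x hx fun ℓ hℓ h => ?_
      obtain rfl := (Nat.prime_dvd_prime_iff_eq hℓ Nat.prime_two).1 h
      omega
  · have h3 : Nat.gcd 2 p = 1 := (Nat.coprime_primes Nat.prime_two hp).2 (Ne.symm hp2)
    rw [h3, one_mul] at hcard
    exact sylCycGrp_of_card_eq' hcard x hx

theorem out_e8 : SylCycGrp (Cfsg.Out ↥(chevE8.group F)) := by
  obtain ⟨p, f, hp, hf, hF⟩ := exists_card F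
  have hfp : Fact p.Prime := ⟨hp⟩
  have hch : CharP F p := charP_of_card_eq_prime_pow hF
  obtain ⟨σ, hσ⟩ := exists_orderOf hf hF
  obtain ⟨x, hx⟩ := Cfsg.Agent.H933.SubChev.exists_out (F := F) (show InList chevE8 by simp [InList]) σ
  rw [hσ] at hx
  have hfin : Finite ↥(chevE8.group F) := inferInstance
  exact sylCycGrp_of_card_eq' (Cfsg.Agent.S2125.result (F := F) p f hF) x hx

/-- `E₇(p ^ f)`, `p = 2` or `f` odd -/
theorem out_e7 {p f : ℕ} (hp : p.Prime) (hF : Fintype.card F = p ^ f) (h : p = 2 ∨ ¬ 2 ∣ f) :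
    SylCycGrp (Cfsg.Out ↥(chevE7.group F)) := by
  have hfp : Fact p.Prime := ⟨hp⟩
  have hch : CharP F p := charP_of_card_eq_prime_pow hF
  have hf : 1 ≤ f := by
    rcases Nat.eq_zero_or_pos f with rfl | h
    · have h1 := Fintype.one_lt_card (α := F)
      rw [hF, pow_zero] at h1; omega
    · exact h
  obtain ⟨σ, hσ⟩ := exists_orderOf hf hF
  obtain ⟨x, hx⟩ := Cfsg.Agent.H933.SubChev.exists_out (F := F) (show InList chevE7 by simp [InList]) σ
  rw [hσ] at hx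
  have hfin : Finite ↥(chevE7.group F) := inferInstance
  have hcard := Cfsg.Agent.S2124.result (F := F) p f hF
  rcases (Nat.dvd_prime Nat.prime_two).1 (Nat.gcd_dvd_left 2 (p ^ f - 1)) with h1 | h1
  · rw [h1, one_mul] at hcard
    exact sylCycGrp_of_card_eq' hcard x hx
  · rw [h1] at hcard
    refine sylCycGrp_of_card_eq hcard x hx fun ℓ hℓ h2 => ?_
    obtain rfl := (Nat.prime_dvd_prime_iff_eq hℓ Nat.prime_two).1 h2
    rcases h with rfl | h
    · exfalso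
      have h3 : 2 ∣ 2 ^ f - 1 := by
        have := Nat.gcd_dvd_right 2 (2 ^ f - 1)
        rwa [h1] at this
      have h4 : 2 ∣ 2 ^ f := dvd_pow_self 2 (by omega)
      have h5 := Nat.one_le_pow f 2 (by norm_num)
      omega
    · omega

/-- `E₆(p ^ f)`, `f` odd, not (`3 ∣ p ^ f - 1` and `3 ∣ f`) -/
theorem out_e6 {p f : ℕ} (hp : p.Prime) (hF : Fintype.card F = p ^ f) (h2 : ¬ 2 ∣ f)
    (h3 : ¬ (3 ∣ p ^ f - 1 ∧ 3 ∣ f)) : SylCycGrp (Cfsg.Out ↥(chevE6.group F)) := by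
  have hfp : Fact p.Prime := ⟨hp⟩
  have hch : CharP F p := charP_of_card_eq_prime_pow hF
  have hf : 1 ≤ f := by
    rcases Nat.eq_zero_or_pos f with rfl | h
    · have h1 := Fintype.one_lt_card (α := F)
      rw [hF, pow_zero] at h1; omega
    · exact h
  obtain ⟨σ, hσ⟩ := exists_orderOf hf hF
  obtain ⟨x, hx⟩ := Cfsg.Agent.H933.SubChev.exists_out (F := F) (show InList chevE6 by simp [InList]) σ
  rw [hσ] at hx
  have hfin : Finite ↥(chevE6.group F) := inferInstance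
  have hcard := Cfsg.Agent.S2123.result (F := F) p f hF
  rcases (Nat.dvd_prime Nat.prime_three).1 (Nat.gcd_dvd_left 3 (p ^ f - 1)) with h1 | h1
  · rw [h1, mul_one] at hcard
    refine sylCycGrp_of_card_eq hcard x hx fun ℓ hℓ h => ?_
    obtain rfl := (Nat.prime_dvd_prime_iff_eq hℓ Nat.prime_two).1 h
    omega
  · rw [h1] at hcard
    have h4 : 3 ∣ p ^ f - 1 := by
      have := Nat.gcd_dvd_right 3 (p ^ f - 1)
      rwa [h1] at this
    have h5 : ¬ 3 ∣ f := fun h => h3 ⟨h4, h⟩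
    refine sylCycGrp_of_card_eq hcard x hx fun ℓ hℓ h => ?_
    rcases (Nat.Prime.dvd_mul hℓ).1 h with h | h
    · obtain rfl := (Nat.prime_dvd_prime_iff_eq hℓ Nat.prime_two).1 h
      omega
    · obtain rfl := (Nat.prime_dvd_prime_iff_eq hℓ Nat.prime_three).1 h
      omega

end chev

section twisted

open Cfsg.Lie

theorem out_3D4 {K : Type} [Field K] [Fintype K] {q : ℕ} (hq : IsPrimePow q) (hK : Fintype.card K = q ^ 3) :
    SylCycGrp (Cfsg.Out ↥(twistedD4 K q)) := by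
  obtain ⟨p, f, hp, hf, hqf⟩ := (isPrimePow_nat_iff q).1 hq
  have hfp : Fact p.Prime := ⟨hp⟩
  subst hqf
  have hK' : Fintype.card K = p ^ (3 * f) := by rw [hK, ← pow_mul, mul_comm]
  have hch : CharP K p := charP_of_card_eq_prime_pow hK'
  have hcard := Cfsg.Agent.S2129.result (K := K) p f hK' hf
  obtain ⟨σ, hσ⟩ := exists_orderOf (show 1 ≤ 3 * f by omega) hK'
  obtain ⟨x, hx⟩ := Cfsg.Agent.H933.SubTwistD.exists_out hq hK p σ
  rw [hσ] at hx
  have hfin : Finite ↥(twistedD4 K (p ^ f)) := inferInstance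
  exact sylCycGrp_of_card_eq' hcard x hx

/-- `²E₆(p ^ f)`, not (`3 ∣ p ^ f + 1` and `3 ∣ f`) -/
theorem out_2E6 {K : Type} [Field K] [Fintype K] {p f : ℕ} (hp : p.Prime) (hf : 1 ≤ f)
    (hK : Fintype.card K = (p ^ f) ^ 2) (h3 : ¬ (3 ∣ p ^ f + 1 ∧ 3 ∣ f)) :
    SylCycGrp (Cfsg.Out ↥(twistedE6 K (p ^ f))) := by
  have hfp : Fact p.Prime := ⟨hp⟩
  have hq : IsPrimePow (p ^ f) := hp.isPrimePow.pow (by omega)
  have hK' : Fintype.card K = p ^ (2 * f) := by rw [hK, ← pow_mul, mul_comm]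
  have hch : CharP K p := charP_of_card_eq_prime_pow hK'
  have hcard := Cfsg.Agent.S2130.result (K := K) p f hK' hf
  obtain ⟨σ, hσ⟩ := exists_orderOf (show 1 ≤ 2 * f by omega) hK'
  obtain ⟨x, hx⟩ := Cfsg.Agent.H933.SubTwistE.exists_out hq hK p σ
  rw [hσ] at hx
  have hfin : Finite ↥(twistedE6 K (p ^ f)) := inferInstance
  rcases (Nat.dvd_prime Nat.prime_three).1 (Nat.gcd_dvd_left 3 (p ^ f + 1)) with h1 | h1
  · rw [h1, mul_one] at hcard
    exact sylCycGrp_of_card_eq' hcard x hx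
  · rw [h1] at hcard
    have h4 : 3 ∣ p ^ f + 1 := by
      have := Nat.gcd_dvd_right 3 (p ^ f + 1)
      rwa [h1] at this
    have h5 : ¬ 3 ∣ f := fun h => h3 ⟨h4, h⟩
    refine sylCycGrp_of_card_eq (c := 3) (f := 2 * f) (by rw [hcard]; ring) x hx fun ℓ hℓ h => ?_
    obtain rfl := (Nat.prime_dvd_prime_iff_eq hℓ Nat.prime_three).1 h
    omega

variable {K : Type} [Field K] [Fintype K]

theorem out_suzuki {m : ℕ} (hm : 1 ≤ m) (hK : Fintype.card K = 2 ^ (2 * m + 1)) :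
    SylCycGrp (Cfsg.Out ↥(Cfsg.Lie.Sz K (2 ^ (m + 1)))) := by
  have hfin : Finite ↥(Cfsg.Lie.Sz K (2 ^ (m + 1))) := inferInstance
  have hcard := Cfsg.Agent.S2126.result (F := K) hm hK
  have hf2 : Fact (Nat.Prime 2) := ⟨Nat.prime_two⟩
  obtain ⟨σ, hσ⟩ := exists_orderOf (show 1 ≤ 2 * m + 1 by omega) hK
  have hx : orderOf σ ∣ orderOf (QuotientGroup.mk (Cfsg.Agent.H70.SzOut.fieldAut
      (Cfsg.Agent.LieRecognition.SzMatrix.good hK) σ) : Cfsg.Out ↥(Cfsg.Lie.Sz K (2 ^ (m + 1)))) := by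
    refine dvd_orderOf _ fun k g hg => ?_
    rw [← map_pow] at hg
    exact Cfsg.Agent.H70.SzOut.eq_one_of_conj _ hg
  rw [hσ] at hx
  exact sylCycGrp_of_card_eq' hcard _ hx

theorem out_ree {m : ℕ} (hm : 1 ≤ m) (hK : Fintype.card K = 3 ^ (2 * m + 1)) :
    SylCycGrp (Cfsg.Out ↥(twistedG2 K (3 ^ m))) := by
  have hf3 : Fact (Nat.Prime 3) := ⟨Nat.prime_three⟩
  have hc : IsCyclic (K ≃+* K) := Cfsg.Agent.H933.SubTwist.isCyclic_ringAut (show 1 ≤ 2 * m + 1 by omega) hK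
  have hc2 : IsCyclic (Cfsg.Out ↥(twistedG2 K (3 ^ m))) :=
    Cfsg.Agent.H933.SubTwist.isCyclic_out (fun τ => Cfsg.Agent.S2127.fld τ (3 ^ m))
      (fun a b => Cfsg.Agent.H71.FldAut.fldG_mul a b _) (fun α => Cfsg.Agent.H71.FldAut.ree_aut hm hK α)
  exact sylCycGrp_of_isCyclic

theorem out_2F4 {m : ℕ} (hm : 1 ≤ m) (hK : Fintype.card K = 2 ^ (2 * m + 1)) :
    SylCycGrp (Cfsg.Out ↥(twistedF4 K (2 ^ m))) := by
  have hf3 : Fact (Nat.Prime 2) := ⟨Nat.prime_two⟩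
  have hc : IsCyclic (K ≃+* K) := Cfsg.Agent.H933.SubTwist.isCyclic_ringAut (show 1 ≤ 2 * m + 1 by omega) hK
  have hc2 : IsCyclic (Cfsg.Out ↥(twistedF4 K (2 ^ m))) :=
    Cfsg.Agent.H933.SubTwist.isCyclic_out (fun τ => Cfsg.Agent.S2128.fld τ (2 ^ m))
      (fun a b => Cfsg.Agent.H71.FldAut.fldF_mul a b _) (fun α => Cfsg.Agent.H71.FldAut.twF4_aut hm hK α)
  exact sylCycGrp_of_isCyclic

end twisted

/-! ### the rows -/

section rows

open Cfsg.Lie

variable {S : Type u} [Group S]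

theorem sylCyc_g2 (h : IsoChevG2 S) : SylCyc S := by
  obtain ⟨F, _, _, hq, ⟨e⟩⟩ := h
  exact sylCyc_of_equiv e (out_g2 hq)

theorem sylCyc_f4 (h : IsoF4 S) : SylCyc S := by
  obtain ⟨F, _, _, ⟨e⟩⟩ := h
  exact sylCyc_of_equiv e out_f4

theorem sylCyc_e8 (h : IsoE8 S) : SylCyc S := by
  obtain ⟨F, _, _, ⟨e⟩⟩ := h
  exact sylCyc_of_equiv e out_e8

theorem sylCyc_3D4 (h : Iso3D4 S) : SylCyc S := by
  obtain ⟨K, _, _, q, hq, hK, ⟨e⟩⟩ := h
  exact sylCyc_of_equiv e (out_3D4 hq hK)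

theorem sylCyc_suzuki (h : IsoSuzuki S) : SylCyc S := by
  obtain ⟨K, _, _, m, hm, hK, ⟨e⟩⟩ := h
  exact sylCyc_of_equiv e (out_suzuki hm hK)

theorem sylCyc_ree (h : IsoRee S) : SylCyc S := by
  obtain ⟨K, _, _, m, hm, hK, ⟨e⟩⟩ := h
  exact sylCyc_of_equiv e (out_ree hm hK)

theorem sylCyc_2F4 (h : Iso2F4 S) : SylCyc S := by
  obtain ⟨K, _, _, m, hm, hK, ⟨e⟩⟩ := h
  exact sylCyc_of_equiv e (out_2F4 hm hK)

/-- `E₇(p ^ f)`, `p = 2` or `f` odd -/
theorem sylCyc_e7 {F : Type} [Field F] [Fintype F] {p f : ℕ} (hp : p.Prime) (hF : Fintype.card F = p ^ f)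
    (h : p = 2 ∨ ¬ 2 ∣ f) (e : S ≃* ↥(chevE7.group F)) : SylCyc S :=
  sylCyc_of_equiv e (out_e7 hp hF h)

/-- `E₆(p ^ f)`, `f` odd, not (`3 ∣ p ^ f - 1` and `3 ∣ f`) -/
theorem sylCyc_e6 {F : Type} [Field F] [Fintype F] {p f : ℕ} (hp : p.Prime) (hF : Fintype.card F = p ^ f)
    (h2 : ¬ 2 ∣ f) (h3 : ¬ (3 ∣ p ^ f - 1 ∧ 3 ∣ f)) (e : S ≃* ↥(chevE6.group F)) : SylCyc S :=
  sylCyc_of_equiv e (out_e6 hp hF h2 h3)

/-- `²E₆(p ^ f)`, not (`3 ∣ p ^ f + 1` and `3 ∣ f`) -/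
theorem sylCyc_2E6 {K : Type} [Field K] [Fintype K] {p f : ℕ} (hp : p.Prime) (hf : 1 ≤ f)
    (hK : Fintype.card K = (p ^ f) ^ 2) (h3 : ¬ (3 ∣ p ^ f + 1 ∧ 3 ∣ f)) (e : S ≃* ↥(twistedE6 K (p ^ f))) :
    SylCyc S :=
  sylCyc_of_equiv e (out_2E6 hp hf hK h3)

/-- `IsoE7`: free, or `q` is an odd square -/
theorem e7_cases (h : IsoE7 S) : SylCyc S ∨ ∃ (F : Type) (_ : Field F) (_ : Fintype F) (p f : ℕ),
    p.Prime ∧ p ≠ 2 ∧ 1 ≤ f ∧ 2 ∣ f ∧ Fintype.card F = p ^ f ∧ Nonempty (S ≃* ↥(chevE7.group F)) := by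
  obtain ⟨F, _, _, ⟨e⟩⟩ := h
  obtain ⟨p, f, hp, hf, hF⟩ := exists_card F
  by_cases h1 : p = 2 ∨ ¬ 2 ∣ f
  · exact Or.inl (sylCyc_e7 hp hF h1 e)
  · rw [not_or, not_not] at h1
    exact Or.inr ⟨F, _, _, p, f, hp, h1.1, hf, h1.2, hF, ⟨e⟩⟩

/-- `IsoChevE6`: free, or `f` is even, or `3 ∣ q - 1` and `3 ∣ f` -/
theorem e6_cases (h : IsoChevE6 S) : SylCyc S ∨ ∃ (F : Type) (_ : Field F) (_ : Fintype F) (p f : ℕ),
    p.Prime ∧ 1 ≤ f ∧ (2 ∣ f ∨ (3 ∣ p ^ f - 1 ∧ 3 ∣ f)) ∧ Fintype.card F = p ^ f ∧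
      Nonempty (S ≃* ↥(chevE6.group F)) := by
  obtain ⟨F, _, _, ⟨e⟩⟩ := h
  obtain ⟨p, f, hp, hf, hF⟩ := exists_card F
  by_cases h1 : 2 ∣ f ∨ (3 ∣ p ^ f - 1 ∧ 3 ∣ f)
  · exact Or.inr ⟨F, _, _, p, f, hp, hf, h1, hF, ⟨e⟩⟩
  · rw [not_or] at h1
    exact Or.inl (sylCyc_e6 hp hF h1.1 h1.2 e)

/-- `Iso2E6`: free, or `3 ∣ q + 1` and `3 ∣ f` -/
theorem twE6_cases (h : Iso2E6 S) : SylCyc S ∨ ∃ (K : Type) (_ : Field K) (_ : Fintype K) (p f : ℕ),
    p.Prime ∧ 1 ≤ f ∧ 3 ∣ p ^ f + 1 ∧ 3 ∣ f ∧ Fintype.card K = (p ^ f) ^ 2 ∧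
      Nonempty (S ≃* ↥(twistedE6 K (p ^ f))) := by
  obtain ⟨K, _, _, q, hq, hK, ⟨e⟩⟩ := h
  obtain ⟨p, f, hp, hf, hqf⟩ := (isPrimePow_nat_iff q).1 hq
  subst hqf
  by_cases h1 : 3 ∣ p ^ f + 1 ∧ 3 ∣ f
  · exact Or.inr ⟨K, _, _, p, f, hp, hf, h1.1, h1.2, hK, ⟨e⟩⟩
  · exact Or.inl (sylCyc_2E6 hp hf hK h1 e)

end rows

end Cfsg.Agent.H55.Ext
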